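import Cfsg.Agent.DT.D0
import Cfsg.Agent.DT.I3
import Cfsg.Agent.DT.I2
import Cfsg.Agent.DT.NA

/-! Project DU (S3257): definitions.  See `notes/DU.md`. -/

set_option autoImplicit false

namespace Cfsg.Agent.DU

open Cfsg.Agent.DT hiding Ctx Blk

variable {G : Type*} [Group G]

/-- `[L, y, y]`. -/
abbrev th (L : Subgroup G) (y : G) : Subgroup G := cm (cm L y) y

/-- any conjugate of `x` is congruent to a power of `x` modulo an `x`-invariant `q`-subgroup. -/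
def K1 (q : ℕ) (x : G) : Prop :=
  ∀ y : G, IsConj x y → ∃ (k : ℕ) (R : Subgroup G), IsPGroup q R ∧ x ∈ nor R ∧ (x ^ k)⁻¹ * y ∈ R

/-- the automizer of `⟨x⟩` has odd order. -/
def K3 (x : G) : Prop := ∀ g ∈ nor (Subgroup.zpowers x), Commute (g * g) x → Commute g x

/-- minimal counterexample context. -/
structure Ctx (p q : ℕ) (x : G) : Prop where
  pp : p.Prime
  qp : q.Prime
  p2 : p ≠ 2
  q2 : q ≠ 2
  pq : p ≠ q
  ord : orderOf x = p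
  k1 : K1 q x
  h2 : H2 q x
  k3 : K3 x
  opp : ∀ N : Subgroup G, N.Normal → (Nat.card N).Coprime p → N = ⊥
  loc : ∀ (L : Subgroup G) (y : G), L ≠ ⊤ → y ∈ L → IsConj x y → IsPGroup q (th L y)
  gen : Subgroup.closure {y : G | IsConj x y} = ⊤
  bad : ¬ IsPGroup q (th (⊤ : Subgroup G) x)

/-- a block: a nontrivial `q`-subgroup maximal subject to `Q = [Q, y]`, `y` a conjugate of `x`. -/
def Blk (q : ℕ) (x : G) (Q : Subgroup G) : Prop :=
  Q ≠ ⊥ ∧ IsPGroup q Q ∧ ∃ y, Pt x Q y ∧ cm Q y = Q ∧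
    ∀ Q' : Subgroup G, IsPGroup q Q' → y ∈ nor Q' → cm Q' y = Q' → Q ≤ Q' → Q' = Q

/-- the hypotheses of S3257. -/
structure FS (p : ℕ) (D : Set (Subgroup G)) : Prop where
  pp : p.Prime
  p2 : p ≠ 2
  nab : ¬ IsMulCommutative G
  card : ∀ A ∈ D, Nat.card A = p
  inv : ∀ A ∈ D, ∀ g : G, cj g A ∈ D
  gen : sSup D = ⊤
  odd : ∀ A ∈ D, ∀ B ∈ D, A ≠ B → Odd (Nat.card (A ⊔ B : Subgroup G))
  iso : ∀ A ∈ D, ∀ B ∈ D, A ≠ B → ∀ A' ∈ D, ∀ B' ∈ D, A' ≠ B' →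
    Nonempty ((A ⊔ B : Subgroup G) ≃* (A' ⊔ B' : Subgroup G))

/-- the structure of the subgroups generated by two members of `D`. -/
def St (q : ℕ) (D : Set (Subgroup G)) : Prop :=
  ∀ A ∈ D, ∀ B ∈ D, A ≠ B → IsPGroup q (⁅A ⊔ B, A ⊔ B⁆ : Subgroup G) ∧
    ∃ k ∈ (⁅A ⊔ B, A ⊔ B⁆ : Subgroup G), B = cj k A

theorem Blk.pgroup {q : ℕ} {x : G} {Q : Subgroup G} (h : Blk q x Q) : IsPGroup q Q := h.2.1

theorem Blk.exists_pt {q : ℕ} {x : G} {Q : Subgroup G} (h : Blk q x Q) : ∃ y, Pt x Q y :=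
  let ⟨y, hy, _⟩ := h.2.2
  ⟨y, hy⟩

theorem cm_mono {R S : Subgroup G} (h : R ≤ S) (y : G) : cm R y ≤ cm S y :=
  Subgroup.commutator_mono h le_rfl

theorem th_mono {R S : Subgroup G} (h : R ≤ S) (y : G) : th R y ≤ th S y := cm_mono (cm_mono h y) y

theorem le_th {U L : Subgroup G} {y : G} (hU : cm U y = U) (h : U ≤ L) : U ≤ th L y := by
  have := th_mono h y
  rwa [th, hU, hU] at this

end Cfsg.Agent.DU
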