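import Cfsg.Agent.DU.Mid

set_option autoImplicit false
set_option linter.unusedSectionVars false

namespace Cfsg.Agent.DU

open Cfsg.Agent.DT hiding Ctx Blk
open Subgroup (zpowers)

variable {G : Type*} [Group G] [Finite G] {p q : ℕ} {x : G}

theorem inv_blk (C : Ctx p q x) {s : G} (hs : s * s = 1) {Q : Subgroup G}
    (hQ : Blk q x Q) (h : ∀ a, IsConj x a → Commute a s → a ∈ nor Q) : s ∈ nor Q := by
  rw [← cj_eq_self_iff]
  refine C.blk_eq_of_pts (hQ.cj s) hQ fun y hy => ?_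
  have hw : s⁻¹ * y * s ∈ nor Q := by
    have := hy.2
    rwa [nor_cj, mem_cj] at this
  have hwc : IsConj x (s⁻¹ * y * s) := by simpa using DTO.isConj_conj hy.1 s⁻¹
  obtain ⟨a, ha, has, ⟨k, hk1, hk2⟩, hk⟩ := mid C hs hwc
  have e := hk k hk1 hk2
  have hkN : k ∈ nor Q := DTO.pair_le (h a ha has) hw (th_le (DTO.l_mem _ _) hk1)
  have : y = k * a * k⁻¹ := by rw [← e]; group
  rw [this]
  exact mul_mem (mul_mem hkN (h a ha has)) (inv_mem hkN)

theorem single (C : Ctx p q x) {s : G} (hs : s * s = 1)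
    (h : ∀ a b, IsConj x a → Commute a s → IsConj x b → Commute b s → b ∈ zpowers a) (g : G)
    (hc : Commute s (g * s * g⁻¹)) : g * s * g⁻¹ = s := by
  set s' := g * s * g⁻¹ with hs'd
  have hs' : s' * s' = 1 := by
    calc _ = g * (s * s) * g⁻¹ := by rw [hs'd]; group
      _ = 1 := by rw [hs]; group
  have h' : ∀ a b, IsConj x a → Commute a s → IsConj x b → Commute b s' → b ∈ zpowers a := by
    intro a b ha has hb hbs
    have h1 : s' * a * s'⁻¹ ∈ zpowers a := h _ _ ha has (DTO.isConj_conj ha s')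
      ((hc.symm.mul_left has).mul_left hc.symm.inv_left)
    have h0 : ∀ l ∈ zpowers a, s' * l * s'⁻¹ ∈ zpowers a := by
      rintro _ ⟨n, rfl⟩
      have := zpow_mem h1 n
      rwa [conj_zpow] at this
    have hn : s' ∈ nor (zpowers a) := mem_nor.2 fun l => ⟨h0 l, fun hl => by
      have h3 := h0 _ hl
      have : s' * (s' * l * s'⁻¹) * s'⁻¹ = l := by
        calc _ = (s' * s') * l * (s' * s')⁻¹ := by group
          _ = l := by rw [hs']; group
      rwa [this] at h3⟩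
    have h2 : Commute a s' := (k3_conj C.k3 ha s' hn (by rw [hs']; exact Commute.one_left a)).symm
    have key : ∀ c, Commute c s' → Commute (g⁻¹ * c * g⁻¹⁻¹) s := fun c hcs => by
      show _ * _ = _ * _
      calc g⁻¹ * c * g⁻¹⁻¹ * s = g⁻¹ * (c * s') * g := by rw [hs'd]; group
        _ = _ := by rw [hcs.eq, hs'd]; group
    obtain ⟨n, hn⟩ := h _ _ (DTO.isConj_conj ha g⁻¹) (key a h2) (DTO.isConj_conj hb g⁻¹) (key b hbs)
    simp only [conj_zpow] at hn
    exact ⟨n, mul_left_cancel (mul_right_cancel hn)⟩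
  by_contra hne
  have h1 : s⁻¹ * s' ≠ 1 := fun e => hne (inv_mul_eq_one.1 e).symm
  have h2 : s⁻¹ * s' * (s⁻¹ * s') = 1 := by
    rw [DTO.inv_self hs]
    calc _ = s * (s' * s) * s' := by group
      _ = (s * s) * (s' * s') := by rw [← hc.eq]; group
      _ = 1 := by rw [hs, hs', one_mul]
  have := Fact.mk Nat.prime_two
  have h3 : orderOf (s⁻¹ * s') = 2 := orderOf_eq_prime (by rw [pow_two, h2]) h1
  refine C.cen_ne_top h1 (by rw [h3]; exact (Nat.coprime_primes Nat.prime_two C.pp).2 C.p2.symm) ?_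
  rw [eq_top_iff, ← C.gen, Subgroup.closure_le]
  intro w hw
  obtain ⟨a, ha, has, ⟨k, hk1, hk2⟩, hk⟩ := mid C hs hw
  obtain ⟨b, hb, hbs, ⟨k', hk1', hk2'⟩, hk'⟩ := mid C hs' hw
  have hba := h' a b ha has hb hbs
  have b1 : b ≠ 1 := fun e => by
    have := C.ord_pt hb
    rw [e, orderOf_one] at this
    exact C.pp.one_lt.ne this
  have hab : a ∈ zpowers b := by
    rw [zp_eq C.pp (C.ord_pt ha) b1 hba]; exact Subgroup.mem_zpowers a
  have hbL : b ∈ Subgroup.closure ({a, w} : Set G) := Subgroup.zpowers_le.2 (DTO.l_mem a w) hba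
  have eL : Subgroup.closure ({b, w} : Set G) = Subgroup.closure ({a, w} : Set G) :=
    le_antisymm (DTO.pair_le hbL (DTO.r_mem _ _))
      (DTO.pair_le (Subgroup.zpowers_le.2 (DTO.l_mem b w) hab) (DTO.r_mem _ _))
  rw [eL, C.th_eq ha (DTO.l_mem a w) hb hbL] at hk1'
  have e0 : k' * k⁻¹ * a * (k' * k⁻¹)⁻¹ = b := by
    calc _ = k' * (k⁻¹ * a * k) * k'⁻¹ := by group
      _ = b := by rw [← hk2, hk2']; group
  have hcm : Commute (k' * k⁻¹) a := par_eq C.pp C.qp C.pq
    (C.loc _ a (C.pair_ne_top ha hw) (DTO.l_mem a w) ha) (C.pw ha)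
    (C.le_nor_th ha (DTO.l_mem a w) (DTO.l_mem a w)) (mul_mem hk1' (inv_mem hk1)) (e0 ▸ hba)
  obtain rfl : a = b := by rw [← e0, hcm.eq, mul_inv_cancel_right]
  have e := (hk k hk1 hk2).trans (hk' k hk1 hk2).symm
  refine mem_cen.2 ?_
  show w * (s⁻¹ * s') = s⁻¹ * s' * w
  calc w * (s⁻¹ * s') = s⁻¹ * (s * w * s⁻¹) * s' := by group
    _ = _ := by rw [e]; group

end Cfsg.Agent.DU
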