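import Cfsg.Agent.DU.Gen

set_option autoImplicit false
set_option linter.unusedSectionVars false

namespace Cfsg.Agent.DU

open Cfsg.Agent.DT hiding Ctx Blk
open Subgroup (zpowers)

variable {G : Type*} [Group G] [Finite G] {p q : ℕ} {x : G}

namespace SubAux

theorem fix (hp : p.Prime) {R : Subgroup G} {y y' : G} (hR : (Nat.card R).Coprime p) (hyp : y ^ p = 1)
    (hyp' : y' ^ p = 1) (hy : y ∈ nor R) (h : y⁻¹ * y' ∈ R) : ∃ t ∈ R, y' = t⁻¹ * y * t := by
  classical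
  have := Fact.mk hp
  have := Fintype.ofFinite R
  let f : Function.End R := fun t => ⟨y⁻¹ * t * y', by
    have := mul_mem ((Subgroup.mem_normalizer_iff''.1 hy _).1 t.2) h
    rwa [mul_assoc, mul_inv_cancel_left] at this⟩
  have k : ∀ (n : ℕ) (t : R), ((f ^ n) t : G) = (y ^ n)⁻¹ * t * y' ^ n := fun n => by
    induction n with
    | zero => intro t; simp [Function.End.one_def]
    | succ n ih =>
      intro t
      rw [pow_succ']
      change y⁻¹ * ((f ^ n) t : G) * y' = _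
      rw [ih, pow_succ', pow_succ]
      group
  have m := Equiv.Perm.card_fixedPoints_modEq (f := f) (p := p) (n := 1) (by
    rw [pow_one]
    exact funext fun t => Subtype.ext (by rw [k, hyp, hyp', inv_one, one_mul, mul_one]; rfl))
  rw [← Nat.card_eq_fintype_card] at m
  obtain ⟨t, ht⟩ : Nonempty f.fixedPoints := Fintype.card_pos_iff.1 (Nat.pos_of_ne_zero fun e => by
    rw [e] at m
    exact (hp.coprime_iff_not_dvd.1 hR.symm) ((Nat.modEq_zero_iff_dvd).1 m))
  have e : y⁻¹ * t * y' = t := congrArg Subtype.val ht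
  refine ⟨t, t.2, ?_⟩
  calc y' = (t : G)⁻¹ * y * (y⁻¹ * t * y') := by group
    _ = _ := by rw [e]

theorem eq_one {K : Subgroup G} (hK : (Nat.card K).Coprime p) (hx : x ^ p = 1) {w : G} (hw : w ∈ K)
    (h : w ∈ zpowers x) : w = 1 := by
  obtain ⟨n, rfl⟩ := h
  refine orderOf_eq_one_iff.1 (Nat.eq_one_of_dvd_coprimes hK (K.orderOf_dvd_natCard hw)
    (orderOf_dvd_of_pow_eq_one ?_))
  show (x ^ n) ^ p = 1
  rw [← zpow_natCast, ← zpow_mul, mul_comm, zpow_mul, zpow_natCast, hx, one_zpow]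

end SubAux

open I1Aux

theorem k1_sub (L : Subgroup G) (y : L) (h : K1 q (y : G)) : K1 q y := by
  intro y' hy'
  obtain ⟨k, R, h1, h2, h3⟩ := h y' (L.subtype.map_isConj hy')
  refine ⟨k, R.subgroupOf L, h1.comap_subtype, mem_nor.2 fun a => ?_, ?_⟩
  · exact mem_nor.1 h2 a
  · simpa [Subgroup.mem_subgroupOf] using h3

theorem k3_sub (L : Subgroup G) (y : L) (h : K3 (y : G)) : K3 y := by
  intro g hg hc
  have := map_nor L.subtype hg
  rw [MonoidHom.map_zpowers] at this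
  exact comm_coe.1 (h g this (comm_coe.2 hc))

theorem th_sub (L : Subgroup G) (y : L) (h : IsPGroup q (th (⊤ : Subgroup L) y)) :
    IsPGroup q (th L (y : G)) := by
  have := h.map L.subtype
  rwa [map_cm, map_cm, ← MonoidHom.range_eq_map, Subgroup.range_subtype] at this

theorem k1_quot (N : Subgroup G) [N.Normal] (h : K1 q x) : K1 q (QuotientGroup.mk x : G ⧸ N) := by
  intro y hy
  obtain ⟨c, rfl⟩ := isConj_iff.1 hy
  obtain ⟨g, rfl⟩ := QuotientGroup.mk_surjective c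
  obtain ⟨k, R, h1, h2, h3⟩ := h (g * x * g⁻¹) (isConj_iff.2 ⟨g, rfl⟩)
  refine ⟨k, R.map (QuotientGroup.mk' N), h1.map _, map_nor (QuotientGroup.mk' N) h2, ?_⟩
  simpa using Subgroup.mem_map_of_mem (QuotientGroup.mk' N) h3

theorem k3_quot (hp : p.Prime) (hx : orderOf x = p) (N : Subgroup G) [N.Normal] (hN : (Nat.card N).Coprime p)
    (h : K3 x) : K3 (QuotientGroup.mk x : G ⧸ N) := by
  intro c hc hcc
  obtain ⟨g, rfl⟩ := QuotientGroup.mk_surjective c
  have hxp : x ^ p = 1 := hx ▸ pow_orderOf_eq_one x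
  obtain ⟨j, hj⟩ := (mem_nor.1 hc _).1 (Subgroup.mem_zpowers _)
  have hjN : (x ^ j)⁻¹ * (g * x * g⁻¹) ∈ N := QuotientGroup.eq.1 (by simpa using hj)
  obtain ⟨t, ht, e⟩ := SubAux.fix hp hN (y := x ^ j) (y' := g * x * g⁻¹)
    (by rw [← zpow_natCast, ← zpow_mul, mul_comm, zpow_mul, zpow_natCast, hxp, one_zpow])
    (by rw [conj_pow, hxp, mul_one, mul_inv_cancel]) (by rw [nor, Subgroup.normalizer_eq_top]; trivial) hjN
  have e1 : t * g * x * (t * g)⁻¹ = x ^ j := by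
    calc _ = t * (g * x * g⁻¹) * t⁻¹ := by group
      _ = _ := by rw [e]; group
  have hn : t * g ∈ nor (zpowers x) := Subgroup.mem_normalizer_fintype (by
    rintro _ ⟨n, rfl⟩
    refine ⟨j * n, ?_⟩
    show x ^ (j * n) = t * g * x ^ n * (t * g)⁻¹
    rw [← conj_zpow, e1, zpow_mul])
  have hm : (QuotientGroup.mk (t * g) : G ⧸ N) = QuotientGroup.mk g := by
    rw [QuotientGroup.mk_mul, (QuotientGroup.eq_one_iff t).2 ht, one_mul]
  have h2 : Commute (t * g * (t * g)) x := by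
    have k1 : t * g * (t * g) * x * (t * g * (t * g))⁻¹ * x⁻¹ ∈ zpowers x :=
      mul_mem ((mem_nor.1 (mul_mem hn hn) x).1 (Subgroup.mem_zpowers x)) (inv_mem (Subgroup.mem_zpowers x))
    have k2 : t * g * (t * g) * x * (t * g * (t * g))⁻¹ * x⁻¹ ∈ N := by
      rw [← QuotientGroup.eq_one_iff, QuotientGroup.mk_mul, QuotientGroup.mk_mul, QuotientGroup.mk_mul,
        QuotientGroup.mk_inv, QuotientGroup.mk_inv, QuotientGroup.mk_mul _ (t * g), hm, hcc.eq]
      group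
    have := SubAux.eq_one hN hxp k2 k1
    rwa [mul_inv_eq_one, mul_inv_eq_iff_eq_mul] at this
  have := (h _ hn h2).map (QuotientGroup.mk' N)
  rwa [QuotientGroup.mk'_apply, QuotientGroup.mk'_apply, hm] at this

theorem good_of_quot' (hp : p.Prime) (hq : q.Prime) (hpq : p ≠ q) (hx : orderOf x = p) (N : Subgroup G)
    [N.Normal] (hN : (Nat.card N).Coprime p) (h1 : K1 q x)
    (h : IsPGroup q (th (⊤ : Subgroup (G ⧸ N)) (QuotientGroup.mk x))) :
    IsPGroup q (th (⊤ : Subgroup G) x) := by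
  haveI := Fact.mk hp
  haveI := Fact.mk hq
  have hxp : x ^ p = 1 := hx ▸ pow_orderOf_eq_one x
  have hKK := k1_cm_th hp hq hpq h1 hx (L := ⊤) trivial
  set K := th (⊤ : Subgroup G) x with hK
  have hmap : K.map (QuotientGroup.mk' N) = th (⊤ : Subgroup (G ⧸ N)) (QuotientGroup.mk x) := by
    rw [hK, map_cm, map_cm, Subgroup.map_top_of_surjective _ (QuotientGroup.mk'_surjective N)]
    rfl
  have hKp : (Nat.card K).Coprime p := (I2Aux.cop_comap hp hq hpq N hN h).coprime_dvd_left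
    (Subgroup.card_dvd_of_le (hmap ▸ Subgroup.le_comap_map _ K))
  have hxK : x ∈ nor K := mem_nor_cm _ x
  have key : ∀ g ∈ K, ∃ R : Subgroup G, IsPGroup q R ∧ x ∈ nor R ∧ x⁻¹ * (g * x * g⁻¹) ∈ R := fun g hg => by
    obtain ⟨k, R, hR, hxR, hm⟩ := h1 (g * x * g⁻¹) (isConj_iff.mpr ⟨g, rfl⟩)
    obtain ⟨s, hs, e⟩ := cop_conj hp hq hpq hR (by rw [← pow_mul, mul_comm, pow_mul, hxp, one_pow])
      (by rw [conj_pow, hxp, mul_one, mul_inv_cancel]) (pow_mem hxR k) hm
    have hsK : s ∈ K := cm_le_th hp hq hpq hR hxp hxR le_top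
      (Subgroup.commutator_mono le_rfl (Subgroup.zpowers_le.2 (pow_mem (Subgroup.mem_zpowers x) k)) hs)
    have e1 : (x ^ k)⁻¹ * x = (x ^ k)⁻¹ * (g⁻¹ * s⁻¹) * (x ^ k)⁻¹⁻¹ * (s * g) := by
      calc _ = (x ^ k)⁻¹ * g⁻¹ * (g * x * g⁻¹) * g := by group
        _ = _ := by rw [e]; group
    have e2 : (x ^ k)⁻¹ * x = 1 := SubAux.eq_one hKp hxp (e1 ▸ mul_mem
      ((mem_nor.1 (inv_mem (pow_mem hxK k)) _).1 (mul_mem (inv_mem hg) (inv_mem hsK))) (mul_mem hsK hg))
      (mul_mem (inv_mem (pow_mem (Subgroup.mem_zpowers x) k)) (Subgroup.mem_zpowers x))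
    rw [inv_mul_eq_one.1 e2] at hm
    exact ⟨R, hR, hxR, hm⟩
  set C := K ⊓ cen x with hC
  obtain ⟨S, hSK, hS, hxS, hSi⟩ := exists_inv_sylow hp hq K hKp hxp hxK
  have hcop : (C.relIndex K).Coprime (S.relIndex K) := by
    apply Nat.coprime_of_dvd
    intro r hr hrC hrS
    by_cases hrq : r = q
    · exact hSi (hrq ▸ hrS)
    obtain ⟨T, hTK, hT, hxT, hTi⟩ := exists_inv_sylow hp hr K hKp hxp hxK
    have hTC : T ≤ C := by
      intro t ht
      refine ⟨hTK ht, mem_cen.mpr ?_⟩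
      obtain ⟨R, hR, -, hm⟩ := key t (hTK ht)
      have hm' : x⁻¹ * (t * x * t⁻¹) ∈ T := by
        have := (mem_nor.mp (inv_mem hxT) t).mp ht
        have e : x⁻¹ * (t * x * t⁻¹) = x⁻¹ * t * x⁻¹⁻¹ * t⁻¹ := by group
        rw [e]
        exact mul_mem this (inv_mem ht)
      have := I3.eq_one hq hr hrq hT hR hm' hm
      have e : t * x = x * (x⁻¹ * (t * x * t⁻¹)) * t := by group
      show t * x = x * t
      rw [e, this, mul_one]
    exact hTi (hrC.trans (Subgroup.relIndex_dvd_of_le_left K hTC))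
  have hprod := H49.isProd_of_coprime_relIndex (inf_le_left : C ≤ K) hSK hcop
  have hKS : cm K x ≤ S := by
    refine cm_le_of hxS fun g hg => ?_
    obtain ⟨R, hR, hxR, hm⟩ := key g hg
    have hyp : (g * x * g⁻¹) ^ p = 1 := by rw [conj_pow, hxp]; simp
    obtain ⟨t, ht, e⟩ := cop_conj hp hq hpq hR hxp hyp hxR hm
    have htK : t ∈ K := cm_le_th hp hq hpq hR hxp hxR le_top ht
    obtain ⟨c, hc, s, hs, rfl⟩ := hprod.2.2 t htK
    have hcx : c * x = x * c := mem_cen.mp hc.2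
    have e2 : g * x * g⁻¹ * x⁻¹ = s⁻¹ * (x * s * x⁻¹) := by
      rw [e]
      have : (c * s)⁻¹ * x * (c * s) = s⁻¹ * (c⁻¹ * (x * c)) * s := by group
      rw [this, ← hcx]
      group
    rw [e2]
    exact mul_mem (inv_mem hs) ((mem_nor.mp hxS s).mp hs)
  exact hS.to_le (hKK.ge.trans hKS)

end Cfsg.Agent.DU
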