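import Cfsg.Agent.DU.Par

set_option autoImplicit false
set_option linter.unusedSectionVars false

namespace Cfsg.Agent.DU

open Cfsg.Agent.DT hiding Ctx Blk
open Subgroup (zpowers)

variable {G : Type*} [Group G] [Finite G] {p q : ℕ} {x : G}

namespace TrAux

theorem nor_comm {P : Subgroup G} {u : G} (hu : u ∈ nor P) : u ∈ nor (⁅P, P⁆ : Subgroup G) := by
  rw [← cj_eq_self_iff] at hu ⊢
  rw [cj, Subgroup.map_commutator]
  rw [cj] at hu
  rw [hu]

theorem key {D : Set (Subgroup G)} (h : FS p D) (hq : q.Prime) (hpq : p ≠ q) (hs : St q D)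
    (hx : zpowers x ∈ D) {u g0 : G} (hu : u ∈ nor (zpowers x))
    (hv : g0⁻¹ * u * g0 ∈ nor (zpowers x)) (hne : zpowers x ≠ cj g0 (zpowers x)) :
    (g0⁻¹ * u * g0) * x * (g0⁻¹ * u * g0)⁻¹ = u * x * u⁻¹ := by
  haveI := Fact.mk h.pp
  haveI := Fact.mk hq
  obtain ⟨hK, k, hk, hB⟩ := hs _ hx _ (h.inv _ hx g0) hne
  set A := zpowers x with hA
  set P := A ⊔ cj g0 A with hP
  have hcard : Nat.card A = p := h.card _ hx
  have hord : orderOf x = p := by rw [← Nat.card_zpowers]; exact hcard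
  have hx1 : x ≠ 1 := by
    rintro rfl
    rw [orderOf_one] at hord
    exact h.pp.one_lt.ne hord
  have hdis : Disjoint A (⁅P, P⁆ : Subgroup G) :=
    IsPGroup.disjoint_of_ne p q hpq _ _ (IsPGroup.of_card (n := 1) (by rw [hcard, pow_one])) hK
  have huB : u ∈ nor (cj g0 A) := by rw [nor_cj, mem_cj]; exact hv
  have huK : u ∈ nor (⁅P, P⁆ : Subgroup G) := nor_comm (nor_inf_le_nor_sup _ _ ⟨hu, huB⟩)
  have hy : g0 * x * g0⁻¹ ∈ cj k A := by
    rw [← hB, mem_cj]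
    have : g0⁻¹ * (g0 * x * g0⁻¹) * g0 = x := by group
    rw [this]; exact Subgroup.mem_zpowers x
  rw [mem_cj] at hy
  obtain ⟨z, hz⟩ : ∃ z, z = k⁻¹ * (g0 * x * g0⁻¹) * k := ⟨_, rfl⟩
  rw [← hz] at hy
  have hz1 : z ≠ 1 := by
    intro e
    apply hx1
    have : x = g0⁻¹ * (k * z * k⁻¹) * g0 := by rw [hz]; group
    rw [this, e]; group
  obtain ⟨j, hj⟩ := Subgroup.mem_zpowers_iff.1 ((mem_nor.1 hv x).1 (Subgroup.mem_zpowers x))
  have ha : u * z * u⁻¹ ∈ A := (mem_nor.1 hu z).1 hy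
  have hb : z ^ j ∈ A := zpow_mem hy j
  have hc : k⁻¹ * (u * k * u⁻¹) ∈ (⁅P, P⁆ : Subgroup G) :=
    mul_mem (inv_mem hk) ((mem_nor.1 huK k).1 hk)
  have haK : u * z * u⁻¹ ∈ nor (⁅P, P⁆ : Subgroup G) :=
    nor_comm (Subgroup.le_normalizer ((le_sup_left : A ≤ P) ha))
  have hzj : z ^ j = k⁻¹ * (g0 * x ^ j * g0⁻¹) * k := by
    have : z = (k⁻¹ * g0) * x * (k⁻¹ * g0)⁻¹ := by rw [hz]; group
    rw [this, conj_zpow]; group
  have e1 : z ^ j * (u * z * u⁻¹)⁻¹ = (k⁻¹ * (u * k * u⁻¹)) *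
      ((u * z * u⁻¹) * (k⁻¹ * (u * k * u⁻¹))⁻¹ * (u * z * u⁻¹)⁻¹) := by
    rw [hzj, hj]
    have : x = g0⁻¹ * (k * z * k⁻¹) * g0 := by rw [hz]; group
    rw [this]
    group
  have e2 : z ^ j * (u * z * u⁻¹)⁻¹ = 1 := by
    refine Subgroup.disjoint_def.1 hdis (mul_mem hb (inv_mem ha)) ?_
    rw [e1]
    exact mul_mem hc ((mem_nor.1 haK _).1 (inv_mem hc))
  have e3 : u * z * u⁻¹ = z ^ j := (mul_inv_eq_one.1 e2).symm
  have hzp : zpowers z = zpowers x := by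
    have hle : zpowers z ≤ zpowers x := by rwa [Subgroup.zpowers_le]
    have h1 : Nat.card (zpowers z) ∣ p := hcard ▸ Subgroup.card_dvd_of_le hle
    rcases (Nat.dvd_prime h.pp).1 h1 with h2 | h2
    · rw [Nat.card_zpowers, orderOf_eq_one_iff] at h2
      exact absurd h2 hz1
    · exact Subgroup.eq_of_le_of_card_ge hle (by rw [h2]; exact hcard.le)
  obtain ⟨n, hn⟩ : x ∈ zpowers z := hzp ▸ Subgroup.mem_zpowers x
  have hn' : z ^ n = x := hn
  rw [← hj]
  calc x ^ j = (z ^ j) ^ n := by rw [← hn', ← zpow_mul, ← zpow_mul, mul_comm]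
    _ = u * x * u⁻¹ := by rw [← e3, conj_zpow, hn']

end TrAux

theorem FS.k3 {D : Set (Subgroup G)} (h : FS p D) (hq : q.Prime) (hpq : p ≠ q) (hs : St q D)
    (hx : zpowers x ∈ D) : K3 x := by
  classical
  intro g hg hgg
  have hcard : Nat.card (zpowers x) = p := h.card _ hx
  let e := IsCyclic.mulAutMulEquiv (zpowers x)
  let ϕ : nor (zpowers x) →* (ZMod (Nat.card (zpowers x)))ˣ :=
    e.toMonoidHom.comp (zpowers x).normalizerMonoidHom
  have hϕ : ∀ u v : nor (zpowers x), ϕ u = ϕ v ↔ (u : G) * x * (u : G)⁻¹ = v * x * (v : G)⁻¹ := by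
    intro u v
    constructor
    · intro huv
      have h1 : (zpowers x).normalizerMonoidHom u = (zpowers x).normalizerMonoidHom v :=
        e.injective huv
      exact congrArg Subtype.val (DFunLike.congr_fun h1 ⟨x, Subgroup.mem_zpowers x⟩)
    · intro huv
      refine congrArg e (MulEquiv.ext ?_)
      rintro ⟨_, n, rfl⟩
      apply Subtype.ext
      change (u : G) * x ^ n * (u : G)⁻¹ = v * x ^ n * (v : G)⁻¹
      rw [← conj_zpow, ← conj_zpow, huv]
  have hct : Nat.card (ZMod (Nat.card (zpowers x)))ˣ = p - 1 := by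
    rw [← Nat.card_congr e.toEquiv, IsCyclic.card_mulAut, hcard, Nat.totient_prime h.pp]
  have htr : ∀ a : G, MonoidHom.transfer ϕ a = 1 := by
    have : sSup D ≤ (MonoidHom.transfer ϕ).ker := by
      refine sSup_le fun B hB b hb => ?_
      rw [MonoidHom.mem_ker]
      have h1 : b ^ p = 1 := by
        have := pow_card_eq_one' (G := B) (x := ⟨b, hb⟩)
        rw [h.card B hB] at this
        exact congrArg Subtype.val this
      have h2 : MonoidHom.transfer ϕ b ^ p = 1 := by rw [← map_pow, h1, map_one]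
      have h3 : MonoidHom.transfer ϕ b ^ (p - 1) = 1 := by rw [← hct]; exact pow_card_eq_one'
      have h4 : p = p - 1 + 1 := (Nat.succ_pred_eq_of_pos h.pp.pos).symm
      rw [h4, pow_succ, h3, one_mul] at h2
      exact h2
    rw [h.gen] at this
    exact fun a => this (Subgroup.mem_top a)
  have hk : ∀ (k : ℕ) (g0 : G) (hv : g0⁻¹ * g ^ k * g0 ∈ nor (zpowers x)),
      ϕ ⟨g0⁻¹ * g ^ k * g0, hv⟩ = ϕ ⟨g, hg⟩ ^ k := by
    intro k g0 hv
    rw [← map_pow]
    by_cases hne : zpowers x = cj g0 (zpowers x)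
    · have h0 : g0 ∈ nor (zpowers x) := cj_eq_self_iff.1 hne.symm
      have : (⟨g0⁻¹ * g ^ k * g0, hv⟩ : nor (zpowers x)) = (⟨g0, h0⟩ : nor (zpowers x))⁻¹ *
          (⟨g, hg⟩ : nor (zpowers x)) ^ k * ⟨g0, h0⟩ := rfl
      rw [this, map_mul, map_mul, map_inv, inv_mul_cancel_comm]
    · exact (hϕ _ _).2 (TrAux.key h hq hpq hs hx (pow_mem hg k) hv hne)
  have hind : ϕ ⟨g, hg⟩ ^ (nor (zpowers x)).index = 1 := by
    have : Fintype (Quotient (MulAction.orbitRel (zpowers g) (G ⧸ nor (zpowers x)))) :=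
      Fintype.ofFinite _
    rw [← htr g, Subgroup.index_eq_sum_minimalPeriod (nor (zpowers x)) g,
      ← Finset.prod_pow_eq_pow_sum, MonoidHom.transfer_eq_prod_quotient_orbitRel_zpowers_quot]
    exact Finset.prod_congr rfl fun r _ => (hk _ _ _).symm
  have h2 : ϕ ⟨g, hg⟩ ^ 2 = 1 := by
    rw [← map_pow, ← map_one ϕ, hϕ]
    change g ^ 2 * x * (g ^ 2)⁻¹ = 1 * x * 1⁻¹
    rw [pow_two, hgg.eq]
    group
  obtain ⟨m, hm⟩ := h.odd_index hs hx
  rw [hm, pow_succ, pow_mul, h2, one_pow, one_mul, ← map_one ϕ, hϕ] at hind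
  have h5 : g * x * g⁻¹ = 1 * x * 1⁻¹ := hind
  rw [one_mul, inv_one, mul_one, mul_inv_eq_iff_eq_mul] at h5
  exact h5

end Cfsg.Agent.DU
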