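import Cfsg.Agent.DU.Blk

set_option autoImplicit false
set_option linter.unusedSectionVars false

namespace Cfsg.Agent.DU

open Cfsg.Agent.DT hiding Ctx Blk
open Subgroup (zpowers)

variable {G : Type*} [Group G] [Finite G] {p q : ℕ} {x : G}

theorem ZBAux.h2q (C : Ctx p q x) {Q : Subgroup G} (h : Blk q x Q) {y : G} (hy : Pt x Q y) :
    ∀ a ∈ Q, Commute (a ^ q) y ∧ (∀ b ∈ Q, Commute (a * b * a⁻¹ * b⁻¹) y) ∧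
      (Commute a y → ∀ b ∈ Q, Commute a b) := by
  have := h2_conj C.h2 hy.1 Q h.pgroup hy.2
  rwa [C.blk_cm h hy] at this

theorem Ctx.zb_iff (C : Ctx p q x) {Q : Subgroup G} (h : Blk q x Q) {y : G} (hy : Pt x Q y) {z : G} :
    z ∈ Zb x Q ↔ z ∈ Q ∧ Commute z y := by
  rw [mem_zb]
  refine ⟨fun e => ⟨e.1, e.2 y hy⟩, fun e => ⟨e.1, fun y' hy' => ?_⟩⟩
  obtain ⟨t, ht, k, rfl⟩ := C.blk_pts h hy hy'
  have := (ZBAux.h2q C h hy z e.1).2.2 e.2 t ht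
  exact (this.inv_right.mul_right (e.2.pow_right k)).mul_right this

theorem Ctx.zb_central (C : Ctx p q x) {Q : Subgroup G} (h : Blk q x Q) {z a : G} (hz : z ∈ Zb x Q)
    (ha : a ∈ Q) : Commute z a := by
  obtain ⟨y, hy⟩ := h.exists_pt
  exact (ZBAux.h2q C h hy z (zb_le x Q hz)).2.2 ((mem_zb.1 hz).2 y hy) a ha

theorem Ctx.comm_mem_zb (C : Ctx p q x) {Q : Subgroup G} (h : Blk q x Q) {a b : G} (ha : a ∈ Q)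
    (hb : b ∈ Q) : a * b * a⁻¹ * b⁻¹ ∈ Zb x Q :=
  mem_zb.2 ⟨Q.mul_mem (Q.mul_mem (Q.mul_mem ha hb) (Q.inv_mem ha)) (Q.inv_mem hb),
    fun _ hy => (ZBAux.h2q C h hy a ha).2.1 b hb⟩

theorem Ctx.pow_mem_zb (C : Ctx p q x) {Q : Subgroup G} (h : Blk q x Q) {a : G} (ha : a ∈ Q) :
    a ^ q ∈ Zb x Q :=
  mem_zb.2 ⟨Q.pow_mem ha q, fun _ hy => (ZBAux.h2q C h hy a ha).1⟩

theorem Ctx.le_nor_of_zb_le (C : Ctx p q x) {Q W : Subgroup G} (h : Blk q x Q) (hZ : Zb x Q ≤ W)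
    (hW : W ≤ Q) : Q ≤ nor W := by
  refine fun g hg => DT.ZBAux.nor_of fun w hw => ?_
  have e : g * w * g⁻¹ = g * w * g⁻¹ * w⁻¹ * w := by group
  rw [e]
  exact W.mul_mem (hZ (C.comm_mem_zb h hg (hW hw))) hw

theorem Ctx.cen_le (C : Ctx p q x) {Q : Subgroup G} (h : Blk q x Q) {t : G} (ht : cen t ≠ ⊤)
    (hc : ∀ y, Pt x Q y → Commute t y) : cen t ≤ nor Q := by
  obtain ⟨y, hy⟩ := h.exists_pt
  exact C.b8 h hy ht (C.le_of_pts h fun y hy => mem_cen.2 (hc y hy).symm) (mem_cen.2 (hc y hy).symm)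

theorem Ctx.cen_zb_le (C : Ctx p q x) {Q : Subgroup G} (h : Blk q x Q) {z : G} (hz : z ∈ Zb x Q)
    (hz1 : z ≠ 1) : cen z ≤ nor Q := by
  obtain ⟨k, hk⟩ := h.pgroup ⟨z, zb_le x Q hz⟩
  exact C.cen_le h (C.cen_ne_top' hz1 (k := k) (congrArg Subtype.val hk)) (mem_zb.1 hz).2

theorem Ctx.zb_ti (C : Ctx p q x) {Q1 Q2 : Subgroup G} (h1 : Blk q x Q1) (h2 : Blk q x Q2)
    (hne : Q1 ≠ Q2) {z : G} (hz1 : z ∈ Zb x Q1) (hz2 : z ∈ Zb x Q2) : z = 1 :=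
  by_contra fun hz => hne (C.blk_eq_of_pts h1 h2 fun y hy =>
    C.cen_zb_le h2 hz2 hz (mem_cen.2 ((mem_zb.1 hz1).2 y hy).symm))

theorem Ctx.not_le_sup (C : Ctx p q x) {Q1 Q2 : Subgroup G} (h1 : Blk q x Q1) (h2 : Blk q x Q2)
    (hne : Q1 ≠ Q2) {y : G} (hy1 : Pt x Q1 y) (hy2 : Pt x Q2 y) :
    ¬ Q1 ≤ (Q1 ⊓ Q2) ⊔ Zb x Q1 := by
  intro hle
  refine hne (C.blk_eq_of_le h1 h2 hy1 hy2 ((C.blk_cm h1 hy1).symm.trans_le (cm_le_of hy2.2 fun a ha => ?_)))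
  obtain ⟨w, hw, z, hz, rfl⟩ := (mem_sup_nor (inf_le_left.trans
    (C.le_nor_of_zb_le h1 le_rfl (zb_le x Q1)))).1 (hle ha)
  have e : w * z * y * (w * z)⁻¹ * y⁻¹ = w * (y * w⁻¹ * y⁻¹) := by
    rw [mul_assoc w z y, ((mem_zb.1 hz).2 y hy1).eq]; group
  rw [e]
  exact Q2.mul_mem hw.2 ((mem_nor.1 hy2.2 _).1 (Q2.inv_mem hw.2))

theorem Ctx.inf_zb (C : Ctx p q x) {Q1 Q2 : Subgroup G} (h1 : Blk q x Q1) (h2 : Blk q x Q2)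
    (hne : Q1 ≠ Q2) {y : G} (hy1 : Pt x Q1 y) (hy2 : Pt x Q2 y) {z : G} (hz : z ∈ Zb x Q1)
    (hz2 : z ∈ Q2) : z = 1 :=
  C.zb_ti h1 h2 hne hz ((C.zb_iff h2 hy2).2 ⟨hz2, (mem_zb.1 hz).2 y hy1⟩)

theorem Ctx.inf_comm (C : Ctx p q x) {Q1 Q2 : Subgroup G} (h1 : Blk q x Q1) (h2 : Blk q x Q2)
    (hne : Q1 ≠ Q2) {y : G} (hy1 : Pt x Q1 y) (hy2 : Pt x Q2 y) {a b : G} (ha : a ∈ Q1 ⊓ Q2)
    (hb : b ∈ Q1 ⊓ Q2) : Commute a b := by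
  have := C.zb_ti h1 h2 hne (C.comm_mem_zb h1 ha.1 hb.1) (C.comm_mem_zb h2 ha.2 hb.2)
  rwa [mul_inv_eq_one, mul_inv_eq_iff_eq_mul] at this

end Cfsg.Agent.DU
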